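import Mathlib.AlgebraicGeometry.SpreadingOut
import Mathlib.AlgebraicGeometry.Morphisms.FinitePresentation
import Mathlib.AlgebraicGeometry.Birational.RationalMap

/-!
# Spreading out without germ injectivity
-/

universe u

open CategoryTheory AlgebraicGeometry TopologicalSpace Opposite

namespace GrothLib.SpreadOut

variable {X Y S : Scheme.{u}}

/-- Two `R`-linear ring maps out of a finite type `R`-algebra into sections near `x` which have the
same germ at `x` agree near `x`. -/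
theorem exists_le_comp_eq {R A : CommRingCat.{u}} (φRA : R ⟶ A) (hφ : φRA.hom.FiniteType)
    {U : X.Opens} {x : X} (hxU : x ∈ U) (a b : A ⟶ Γ(X, U)) (hR : φRA ≫ a = φRA ≫ b)
    (hgerm : a ≫ X.presheaf.germ U x hxU = b ≫ X.presheaf.germ U x hxU) :
    ∃ (V : X.Opens) (i : V ≤ U), x ∈ V ∧
      a ≫ X.presheaf.map (homOfLE i).op = b ≫ X.presheaf.map (homOfLE i).op := by
  let := φRA.hom.toAlgebra
  obtain ⟨s, hs⟩ := hφ
  have := fun t ↦ X.presheaf.germ_eq x hxU hxU (a t) (b t) (by simpa using congr($hgerm t))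
  choose W hxW iW iW' hW using this
  refine ⟨s.inf W ⊓ U, inf_le_right, ⟨?_, hxU⟩, ?_⟩
  · rw [Opens.coe_finset_inf]
    simpa using fun t _ ↦ hxW t
  let res := X.presheaf.map (homOfLE (inf_le_right : s.inf W ⊓ U ≤ U)).op
  let := (φRA ≫ a ≫ res).hom.toAlgebra
  let a' : A →ₐ[R] Γ(X, s.inf W ⊓ U) := { (a ≫ res).hom with commutes' := fun r ↦ rfl }
  let b' : A →ₐ[R] Γ(X, s.inf W ⊓ U) := { (b ≫ res).hom with
    commutes' := fun r ↦ (congr(res ($hR r)) :).symm }
  suffices a' = b' by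
    ext t
    exact DFunLike.congr_fun this t
  refine AlgHom.ext_of_adjoin_eq_top hs fun t ht ↦ ?_
  show res (a t) = res (b t)
  have hle : s.inf W ⊓ U ≤ W t := inf_le_left.trans (Finset.inf_le ht)
  have := congr(X.presheaf.map (homOfLE hle).op $(hW t))
  simp only [res, ← ConcreteCategory.comp_apply, Category.assoc, ← Functor.map_comp] at this ⊢
  exact this

/-- Morphisms locally of finite type are determined near a point by the map of stalks. -/
theorem spread_out_unique (sY : Y ⟶ S) [LocallyOfFiniteType sY] (f g : X ⟶ Y)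
    (hfg : f ≫ sY = g ≫ sY) {x : X} (e : f x = g x)
    (H : f.stalkMap x =
      Y.presheaf.stalkSpecializes (Inseparable.of_eq e.symm).specializes ≫ g.stalkMap x) :
    ∃ U : X.Opens, x ∈ U ∧ U.ι ≫ f = U.ι ≫ g := by
  obtain ⟨_, ⟨U₀, hU₀, rfl⟩, hxU₀, -⟩ :=
    S.isBasis_affineOpens.exists_subset_of_mem_open (Set.mem_univ (sY (f x))) isOpen_univ
  obtain ⟨_, ⟨V : Y.Opens, hV, rfl⟩, hxV, iVU⟩ :=
    Y.isBasis_affineOpens.exists_subset_of_mem_open hxU₀ (sY ⁻¹ᵁ U₀).2
  have hxV' : g x ∈ V := e ▸ hxV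
  let W := f ⁻¹ᵁ V ⊓ g ⁻¹ᵁ V
  obtain ⟨V', hV'W, hxV', hV'⟩ := exists_le_comp_eq (sY.appLE U₀ V iVU)
    (sY.finiteType_appLE hU₀ hV iVU) (U := W) (x := x) ⟨hxV, hxV'⟩
    (f.appLE V W inf_le_left) (g.appLE V W inf_le_right) (by
      rw [Scheme.Hom.appLE_comp_appLE, Scheme.Hom.appLE_comp_appLE]
      congr 1) (by
      simp only [Scheme.Hom.appLE, Category.assoc, X.presheaf.germ_res', ← Scheme.Hom.germ_stalkMap,
        H]
      simp only [TopCat.Presheaf.germ_stalkSpecializes_assoc, Scheme.Hom.germ_stalkMap])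
  simp only [Scheme.Hom.appLE_map] at hV'
  refine ⟨V', hxV', ?_⟩
  rw [← Scheme.Hom.resLE_comp_ι f (hV'W.trans inf_le_left),
    ← Scheme.Hom.resLE_comp_ι g (hV'W.trans inf_le_right)]
  congr 1
  have : IsAffine V := hV
  apply ext_of_isAffine
  simp only [Scheme.Hom.appTop, Scheme.Hom.app_eq_appLE, Scheme.Hom.resLE_appLE]
  suffices ∀ (U' : X.Opens) (V₀ : Y.Opens) (eU : V' = U') (eV : V = V₀),
      f.appLE V₀ U' (eU ▸ eV ▸ hV'W.trans inf_le_left) =
        g.appLE V₀ U' (eU ▸ eV ▸ hV'W.trans inf_le_right) from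
    this _ _ (by simp) (by simp)
  rintro U' V₀ rfl rfl
  exact hV'

/-- Variant of `spread_out_unique` with an equality of morphisms on the local scheme. -/
theorem spread_out_unique' (sY : Y ⟶ S) [LocallyOfFiniteType sY] (f g : X ⟶ Y)
    (hfg : f ≫ sY = g ≫ sY) {x : X} (e : X.fromSpecStalk x ≫ f = X.fromSpecStalk x ≫ g) :
    ∃ U : X.Opens, x ∈ U ∧ U.ι ≫ f = U.ι ≫ g := by
  fapply spread_out_unique sY f g hfg
  · simpa using congr($e (IsLocalRing.closedPoint _))
  · apply Spec.map_injective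
    rw [← cancel_mono (Y.fromSpecStalk _)]
    simpa [Scheme.SpecMap_stalkSpecializes_fromSpecStalk]

/-- Partial maps over a base agreeing at the generic point of an irreducible scheme are
equivalent. -/
theorem equiv_of_fromFunctionField_eq [X.Over S] [Y.Over S] [IrreducibleSpace X]
    [LocallyOfFiniteType (Y ↘ S)] (f g : X.PartialMap Y) [f.IsOver S] [g.IsOver S]
    (H : f.fromFunctionField = g.fromFunctionField) : f.equiv g := by
  set W := f.domain ⊓ g.domain with hW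
  have hd : Dense (W : Set X) := f.dense_domain.inter_of_isOpen_left g.dense_domain f.domain.2
  have hη : genericPoint X ∈ W :=
    (genericPoint_specializes _).mem_open W.2 hd.nonempty.choose_spec
  let f' : W.toScheme ⟶ Y := X.homOfLE inf_le_left ≫ f.hom
  let g' : W.toScheme ⟶ Y := X.homOfLE inf_le_right ≫ g.hom
  have hf' : f' ≫ (Y ↘ S) = W.ι ≫ (X ↘ S) := by
    simp [f']
  have hg' : g' ≫ (Y ↘ S) = W.ι ≫ (X ↘ S) := by
    simp [g']
  have H' : W.fromSpecStalkOfMem _ hη ≫ f' = W.fromSpecStalkOfMem _ hη ≫ g' := by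
    show (f.restrict W hd inf_le_left).fromSpecStalkOfMem hη =
      (g.restrict W hd inf_le_right).fromSpecStalkOfMem hη
    rw [Scheme.PartialMap.fromSpecStalkOfMem_restrict, Scheme.PartialMap.fromSpecStalkOfMem_restrict]
    exact H
  simp only [Scheme.Opens.fromSpecStalkOfMem, Category.assoc] at H'
  rw [cancel_epi] at H'
  obtain ⟨U, hxU, e⟩ := spread_out_unique' (Y ↘ S) f' g' (hf'.trans hg'.symm) H'
  have hdU : Dense ((W.ι ''ᵁ U : X.Opens) : Set X) :=
    (W.ι ''ᵁ U).2.dense ⟨_, ⟨_, hxU, rfl⟩⟩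
  refine ⟨W.ι ''ᵁ U, hdU, (W.ι_image_le U).trans inf_le_left,
    (W.ι_image_le U).trans inf_le_right, ?_⟩
  show X.homOfLE ((W.ι_image_le U).trans inf_le_left) ≫ f.hom =
    X.homOfLE ((W.ι_image_le U).trans inf_le_right) ≫ g.hom
  rw [← cancel_epi (Scheme.Hom.isoImage _ _).hom]
  simp only [f', g', ← Category.assoc] at e ⊢
  convert! e using 2 <;> rw [← cancel_mono (Scheme.Opens.ι _)] <;> simp

/-- Lifting a map into a stalk from a finitely presented algebra. -/
theorem exists_lift_of_finitePresentation {R A : CommRingCat.{u}} (φRA : R ⟶ A)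
    (hφ : φRA.hom.FinitePresentation) {U : X.Opens} {x : X} (hxU : x ∈ U) (φRX : R ⟶ Γ(X, U))
    (φ : A ⟶ X.presheaf.stalk x) (e : φRA ≫ φ = φRX ≫ X.presheaf.germ U x hxU) :
    ∃ (V : X.Opens) (hxV : x ∈ V) (i : V ≤ U) (φ' : A ⟶ Γ(X, V)), IsAffineOpen V ∧
      φ = φ' ≫ X.presheaf.germ V x hxV ∧ φRX ≫ X.presheaf.map (homOfLE i).op = φRA ≫ φ' := by
  let := φRA.hom.toAlgebra
  obtain ⟨n, f, hf, s, hs⟩ := hφ
  choose W₀ hxW₀ b hb using fun k : Fin n ↦ X.presheaf.exists_germ_eq (φ (f (.X k)))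
  set W₁ : X.Opens := Finset.univ.inf W₀ ⊓ U with hW₁
  have hxW₁ : x ∈ W₁ := ⟨by
    rw [Opens.coe_finset_inf]; simpa using hxW₀, hxU⟩
  let φ₁ : R →+* Γ(X, W₁) := (φRX ≫ X.presheaf.map (homOfLE (inf_le_right : W₁ ≤ U)).op).hom
  let ev : MvPolynomial (Fin n) R →+* Γ(X, W₁) := MvPolynomial.eval₂Hom φ₁ fun k ↦
    X.presheaf.map (homOfLE ((inf_le_left.trans (Finset.inf_le (Finset.mem_univ k))) :
      W₁ ≤ W₀ k)).op (b k)
  have hev : (X.presheaf.germ W₁ x hxW₁).hom.comp ev = φ.hom.comp f.toRingHom := by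
    apply MvPolynomial.ringHom_ext
    · intro r
      simp only [RingHom.comp_apply, ev, MvPolynomial.eval₂Hom_C, φ₁, AlgHom.toRingHom_eq_coe,
        RingHom.coe_coe]
      erw [X.presheaf.germ_res_apply]
      rw [show f (MvPolynomial.C r) = φRA r from f.commutes r]
      exact congr($e r).symm
    · intro k
      simp only [RingHom.comp_apply, ev, MvPolynomial.eval₂Hom_X', AlgHom.toRingHom_eq_coe,
        RingHom.coe_coe]
      erw [X.presheaf.germ_res_apply]
      exact hb k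
  have : ∀ q : s, X.presheaf.germ W₁ x hxW₁ (ev q.1) = X.presheaf.germ W₁ x hxW₁ 0 := fun q ↦ by
    have hq : q.1 ∈ RingHom.ker f.toRingHom := hs.le (Ideal.subset_span q.2)
    rw [map_zero]
    exact (RingHom.congr_fun hev q.1).trans (by rw [RingHom.comp_apply, hq, map_zero])
  choose W₂ hxW₂ iW₂ iW₂' hW₂ using fun q : s ↦
    X.presheaf.germ_eq x hxW₁ hxW₁ (ev q.1) 0 (this q)
  set W₃ : X.Opens := Finset.univ.inf W₂ ⊓ W₁ with hW₃
  have hxW₃ : x ∈ W₃ := ⟨by
    rw [Opens.coe_finset_inf]; simpa using hxW₂, hxW₁⟩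
  obtain ⟨V, hV, hxV, hVW⟩ := exists_isAffineOpen_mem_and_subset hxW₃
  have hV₁ : V ≤ W₁ := (show V ≤ W₃ from hVW).trans inf_le_right
  let ev' := (X.presheaf.map (homOfLE hV₁).op).hom.comp ev
  have hker : RingHom.ker f.toRingHom ≤ RingHom.ker ev' := by
    rw [← hs, Ideal.span_le]
    intro q hq
    rw [SetLike.mem_coe, RingHom.mem_ker]
    have hle : V ≤ W₂ ⟨q, hq⟩ := (show V ≤ W₃ from hVW).trans
      (inf_le_left.trans (Finset.inf_le (Finset.mem_univ _)))
    have h2 := congr(X.presheaf.map (homOfLE hle).op $(hW₂ ⟨q, hq⟩))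
    simp only [map_zero, ← ConcreteCategory.comp_apply, ← Functor.map_comp] at h2
    exact h2
  let φ' := f.toRingHom.liftOfSurjective hf ⟨ev', hker⟩
  have hφ' : ∀ z, φ' (f z) = ev' z := fun z ↦ RingHom.liftOfRightInverse_comp_apply _ _ _ _ _
  refine ⟨V, hxV, hV₁.trans inf_le_right, CommRingCat.ofHom φ', hV, ?_, ?_⟩
  · ext a
    obtain ⟨z, rfl⟩ := hf a
    show φ (f z) = X.presheaf.germ V x hxV (φ' (f z))
    rw [hφ']
    show _ = X.presheaf.germ V x hxV (X.presheaf.map _ (ev z))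
    rw [X.presheaf.germ_res_apply]
    exact (RingHom.congr_fun hev z).symm
  · ext r
    show _ = φ' (φRA r)
    rw [show φRA r = f (MvPolynomial.C r) from (f.commutes r).symm, hφ']
    show _ = X.presheaf.map _ (ev (MvPolynomial.C r))
    simp only [ev, MvPolynomial.eval₂Hom_C, φ₁]
    simp only [← ConcreteCategory.comp_apply, Category.assoc, ← Functor.map_comp]
    rfl

/-- Spreading out for a target locally of finite presentation, no condition on the source. -/
theorem spread_out (sX : X ⟶ S) (sY : Y ⟶ S) [LocallyOfFinitePresentation sY] {x : X} {y : Y}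
    (e : sX x = sY y) (φ : Y.presheaf.stalk y ⟶ X.presheaf.stalk x)
    (h : sY.stalkMap y ≫ φ =
      S.presheaf.stalkSpecializes (Inseparable.of_eq e).specializes ≫ sX.stalkMap x) :
    ∃ (U : X.Opens) (hxU : x ∈ U) (f : U.toScheme ⟶ Y),
      Spec.map φ ≫ Y.fromSpecStalk y = U.fromSpecStalkOfMem x hxU ≫ f ∧
      f ≫ sY = U.ι ≫ sX := by
  obtain ⟨_, ⟨U, hU, rfl⟩, hxU, -⟩ :=
    S.isBasis_affineOpens.exists_subset_of_mem_open (Set.mem_univ (sX x)) isOpen_univ
  have hyU : sY y ∈ U := e ▸ hxU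
  obtain ⟨_, ⟨V : Y.Opens, hV, rfl⟩, hyV, iVU⟩ :=
    Y.isBasis_affineOpens.exists_subset_of_mem_open hyU (sY ⁻¹ᵁ U).2
  have : sY.appLE U V iVU ≫ Y.presheaf.germ V y hyV ≫ φ =
      sX.app U ≫ X.presheaf.germ (sX ⁻¹ᵁ U) x hxU := by
    rw [Scheme.Hom.appLE, Category.assoc, Y.presheaf.germ_res_assoc,
      ← Scheme.Hom.germ_stalkMap_assoc, h]
    simp
  obtain ⟨W, hxW, i, φ', hW, h₁, h₂⟩ :=
    exists_lift_of_finitePresentation (sY.appLE U V iVU)
      (sY.finitePresentation_appLE hU hV iVU) (U := sX ⁻¹ᵁ U) (x := x) hxU (sX.app U)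
      (Y.presheaf.germ _ y hyV ≫ φ) this
  refine ⟨W, hxW, W.toSpecΓ ≫ Spec.map φ' ≫ hV.fromSpec, ?_, ?_⟩
  · rw [W.fromSpecStalkOfMem_toSpecΓ_assoc x hxW, ← Spec.map_comp_assoc, ← h₁,
      Spec.map_comp, Category.assoc, ← IsAffineOpen.fromSpecStalk,
      IsAffineOpen.fromSpecStalk_eq_fromSpecStalk]
  · simp only [Category.assoc]
    rw [← IsAffineOpen.SpecMap_appLE_fromSpec sY hU hV iVU, ← Spec.map_comp_assoc, ← h₂,
      ← Scheme.Hom.appLE, ← hW.isoSpec_hom, IsAffineOpen.SpecMap_appLE_fromSpec sX hU hW i,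
      ← Iso.eq_inv_comp, IsAffineOpen.isoSpec_inv_ι_assoc]

end GrothLib.SpreadOut
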