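import Groth.Agent.Lib.SpreadOut.Basic
import Groth.Agent.Lib.SchDense.Basic
import Mathlib.AlgebraicGeometry.Morphisms.SchemeTheoreticallyDominant
import Mathlib.AlgebraicGeometry.Noetherian
import Mathlib.Topology.NoetherianSpace

/-!
# Extension of morphisms from a schematically dominant `j : P ⟶ X`, locally on the stalks

If `φ : P ⟶ N` extends to every `Spec O_{X,x}`, with `N` separated and locally of finite presentation
and `P` locally noetherian, then `φ` extends to `X`.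
-/

universe u

open CategoryTheory CategoryTheory.Limits AlgebraicGeometry TopologicalSpace

namespace GrothLib.SpreadOut

variable {X N S P : Scheme.{u}}

theorem exists_local_factor {A : CommRingCat.{u}} [IsLocalRing A] (c : Spec A ⟶ X)
    {x : X} (hx : c (IsLocalRing.closedPoint A) = x) :
    ∃ h : X.presheaf.stalk x ⟶ A, Spec.map h ≫ X.fromSpecStalk x = c := by
  subst hx
  exact ⟨Scheme.stalkClosedPointTo c, Scheme.Spec_stalkClosedPointTo_fromSpecStalk c⟩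

/-- A morphism on a local scheme over `S` spreads out to a neighbourhood. -/
theorem spread_out_stalk (sX : X ⟶ S) (sN : N ⟶ S) [LocallyOfFinitePresentation sN] (x : X)
    (ψ : Spec (X.presheaf.stalk x) ⟶ N) (hψ : ψ ≫ sN = X.fromSpecStalk x ≫ sX) :
    ∃ (U : X.Opens) (hxU : x ∈ U) (f : U.toScheme ⟶ N),
      U.fromSpecStalkOfMem x hxU ≫ f = ψ ∧ f ≫ sN = U.ι ≫ sX := by
  obtain ⟨h, hh⟩ := exists_local_factor ψ (x := ψ (IsLocalRing.closedPoint _)) rfl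
  have e : sX x = sN (ψ (IsLocalRing.closedPoint _)) := by
    have := congr($hψ (IsLocalRing.closedPoint _))
    simp only [Scheme.Hom.comp_apply, Scheme.fromSpecStalk_closedPoint] at this
    exact this.symm
  obtain ⟨U, hxU, f, hf, hf'⟩ := spread_out sX sN e h (Spec.map_injective (by
    rw [← cancel_mono (S.fromSpecStalk _), Spec.map_comp, Spec.map_comp, Category.assoc, Category.assoc,
      Scheme.SpecMap_stalkMap_fromSpecStalk, ← Category.assoc, hh, hψ,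
      Scheme.SpecMap_stalkSpecializes_fromSpecStalk, Scheme.SpecMap_stalkMap_fromSpecStalk]))
  exact ⟨U, hxU, f, hf.symm.trans hh, hf'⟩

variable (j : P ⟶ X) [QuasiCompact j] [IsLocallyNoetherian P]

/-- Two morphisms from `P` agreeing over `Spec O_{X,x}` agree over a neighbourhood of `x`. -/
theorem exists_nhd_agree (sN : N ⟶ S) [LocallyOfFiniteType sN] (a b : P ⟶ N) (h : a ≫ sN = b ≫ sN)
    (x : X) (hab : pullback.fst j (X.fromSpecStalk x) ≫ a = pullback.fst j (X.fromSpecStalk x) ≫ b) :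
    ∃ V : X.Opens, x ∈ V ∧ (j ⁻¹ᵁ V).ι ≫ a = (j ⁻¹ᵁ V).ι ≫ b := by
  classical
  let W : P.Opens := ⨆ W : {W : P.Opens // W.ι ≫ a = W.ι ≫ b}, W.1
  have hgen : ∀ z : P, j z ⤳ x → z ∈ W := by
    intro z hz
    have e : P.fromSpecStalk z ≫ a = P.fromSpecStalk z ≫ b := by
      let l : Spec (P.presheaf.stalk z) ⟶ pullback j (X.fromSpecStalk x) :=
        pullback.lift (P.fromSpecStalk z)
          (Spec.map (j.stalkMap z) ≫ Spec.map (X.presheaf.stalkSpecializes hz)) (by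
            rw [Category.assoc, Scheme.SpecMap_stalkSpecializes_fromSpecStalk,
              Scheme.SpecMap_stalkMap_fromSpecStalk])
      have hl : l ≫ pullback.fst j (X.fromSpecStalk x) = P.fromSpecStalk z := pullback.lift_fst _ _ _
      rw [← hl, Category.assoc, Category.assoc, hab]
    obtain ⟨U, hzU, hU⟩ := spread_out_unique' sN a b h e
    exact Opens.mem_iSup.mpr ⟨⟨U, hU⟩, hzU⟩
  obtain ⟨_, ⟨(V₀ : X.Opens), hV₀, rfl⟩, hxV₀, -⟩ :=
    X.isBasis_affineOpens.exists_subset_of_mem_open (Set.mem_univ x) isOpen_univ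
  let T : P.Opens := j ⁻¹ᵁ V₀
  haveI : CompactSpace T.toScheme :=
    isCompact_iff_compactSpace.mp (j.isCompact_preimage hV₀.isCompact)
  haveI : IsNoetherian T.toScheme := {}
  let Z : Set T.toScheme := (T.ι ⁻¹ᵁ W : Set T.toScheme)ᶜ
  obtain ⟨F, hF, hFirr, hFcl, hZ⟩ :=
    NoetherianSpace.exists_finite_set_isClosed_irreducible
      (T.ι ⁻¹ᵁ W).2.isClosed_compl
  have hgp : ∀ C ∈ F, ∃ c, IsGenericPoint c C := fun C hC => QuasiSober.sober (hFcl C hC) (hFirr C hC)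
  choose c hc using hgp
  let B : Set X := ⋃ (C : Set T.toScheme) (hC : C ∈ F), closure {j (T.ι (c C hC))}
  have hB : IsClosed B := by
    haveI := hF.to_subtype
    have : B = ⋃ C : F, closure {j (T.ι (c C.1 C.2))} := by simp only [B, Set.iUnion_subtype]
    rw [this]; exact isClosed_iUnion_of_finite fun _ => isClosed_closure
  have hxB : x ∉ B := by
    intro hx
    obtain ⟨C, hC, hxC⟩ := Set.mem_iUnion₂.mp hx
    have hzW := hgen (T.ι (c C hC)) (specializes_iff_mem_closure.mpr hxC)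
    have hcZ : c C hC ∈ (T.ι ⁻¹ᵁ W : Set T.toScheme)ᶜ := hZ.symm ▸ Set.subset_sUnion_of_mem hC (hc C hC).mem
    exact hcZ hzW
  refine ⟨⟨V₀ ∩ Bᶜ, V₀.2.inter hB.isOpen_compl⟩, ⟨hxV₀, hxB⟩, ?_⟩
  set O : P.Opens := j ⁻¹ᵁ ⟨V₀ ∩ Bᶜ, V₀.2.inter hB.isOpen_compl⟩
  have hOW : O ≤ W := by
    rintro z ⟨hzV, hzB⟩
    by_contra hzW
    let z' : T.toScheme := ⟨z, hzV⟩
    have : z' ∈ ⋃₀ F := hZ ▸ hzW
    obtain ⟨C, hC, hzC⟩ := this
    refine hzB (Set.mem_iUnion₂.mpr ⟨C, hC, ?_⟩)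
    exact specializes_iff_mem_closure.mp (((hc C hC).specializes hzC).map (T.ι ≫ j).continuous)
  have hWeq : W.ι ≫ a = W.ι ≫ b := by
    refine (Scheme.Opens.iSupOpenCover fun W : {W : P.Opens // W.ι ≫ a = W.ι ≫ b} => W.1).hom_ext _ _ fun i => ?_
    exact (Scheme.homOfLE_ι_assoc _ (le_iSup (fun W : {W : P.Opens // W.ι ≫ a = W.ι ≫ b} => W.1) i) a).trans (i.2.trans (Scheme.homOfLE_ι_assoc _ (le_iSup (fun W : {W : P.Opens // W.ι ≫ a = W.ι ≫ b} => W.1) i) b).symm)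
  rw [← Scheme.homOfLE_ι _ hOW, Category.assoc, hWeq, Category.assoc]

/-- `φ : P ⟶ N` extends to `X` if it extends to each local scheme of `X`. -/
theorem exists_extension [IsSchemeTheoreticallyDominant j] (sX : X ⟶ S) (sN : N ⟶ S)
    [LocallyOfFinitePresentation sN] [IsSeparated sN] (φ : P ⟶ N) (hφ : φ ≫ sN = j ≫ sX)
    (h : ∀ x : X, ∃ ψ : Spec (X.presheaf.stalk x) ⟶ N, ψ ≫ sN = X.fromSpecStalk x ≫ sX ∧
      pullback.fst j (X.fromSpecStalk x) ≫ φ = pullback.snd j (X.fromSpecStalk x) ≫ ψ) :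
    ∃ F : X ⟶ N, F ≫ sN = sX ∧ j ≫ F = φ := by
  have loc : ∀ x : X, ∃ (V : X.Opens) (f : V.toScheme ⟶ N), x ∈ V ∧ f ≫ sN = V.ι ≫ sX ∧
      (j ∣_ V) ≫ f = (j ⁻¹ᵁ V).ι ≫ φ := by
    intro x
    obtain ⟨ψ, hψ, hψφ⟩ := h x
    obtain ⟨U, hxU, f, hf, hf'⟩ := spread_out_stalk sX sN x ψ hψ
    haveI : QuasiCompact (j ∣_ U) := inferInstance
    obtain ⟨V, hxV, hV⟩ := exists_nhd_agree (j ∣_ U) sN ((j ∣_ U) ≫ f) ((j ⁻¹ᵁ U).ι ≫ φ)
      (by rw [Category.assoc, hf', ← Category.assoc, morphismRestrict_ι, Category.assoc, Category.assoc, hφ])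
      ⟨x, hxU⟩ (by
        let q := U.toScheme.fromSpecStalk ⟨x, hxU⟩
        let e := Spec.map (inv (U.ι.stalkMap ⟨x, hxU⟩))
        have he : U.fromSpecStalkOfMem x hxU = e ≫ q := rfl
        have hq : q ≫ U.ι = Spec.map (U.ι.stalkMap ⟨x, hxU⟩) ≫ X.fromSpecStalk x :=
          (Scheme.SpecMap_stalkMap_fromSpecStalk U.ι).symm
        let l : pullback (j ∣_ U) q ⟶ pullback j (X.fromSpecStalk x) :=
          pullback.lift (pullback.fst (j ∣_ U) q ≫ (j ⁻¹ᵁ U).ι)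
            (pullback.snd (j ∣_ U) q ≫ Spec.map (U.ι.stalkMap ⟨x, hxU⟩)) (by
              rw [Category.assoc, ← morphismRestrict_ι, ← Category.assoc, pullback.condition,
                Category.assoc, hq, Category.assoc]
              rfl)
        have hl1 : l ≫ pullback.fst j (X.fromSpecStalk x) = pullback.fst (j ∣_ U) q ≫ (j ⁻¹ᵁ U).ι :=
          pullback.lift_fst _ _ _
        have hl2 : l ≫ pullback.snd j (X.fromSpecStalk x) =
            pullback.snd (j ∣_ U) q ≫ Spec.map (U.ι.stalkMap ⟨x, hxU⟩) := pullback.lift_snd _ _ _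
        have hqf : q ≫ f = Spec.map (U.ι.stalkMap ⟨x, hxU⟩) ≫ ψ := by
          rw [← hf, he]
          simp [e, ← Spec.map_comp_assoc]
        have h3 := congrArg (fun z => l ≫ z) hψφ
        simp only [reassoc_of% hl1, reassoc_of% hl2] at h3
        rw [← Category.assoc, pullback.condition, Category.assoc, hqf]
        exact h3.symm)
    let V' : X.Opens := U.ι ''ᵁ V
    have hV'U : V' ≤ U := U.ι_image_le V
    refine ⟨V', X.homOfLE hV'U ≫ f, ⟨⟨x, hxU⟩, hxV, rfl⟩, ?_, ?_⟩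
    · rw [Category.assoc, hf', Scheme.homOfLE_ι_assoc]
    · let k : (j ⁻¹ᵁ V').toScheme ⟶ ((j ∣_ U) ⁻¹ᵁ V).toScheme :=
        IsOpenImmersion.lift ((((j ∣_ U) ⁻¹ᵁ V)).ι ≫ (j ⁻¹ᵁ U).ι) (j ⁻¹ᵁ V').ι (by
          rintro _ ⟨p, rfl⟩
          obtain ⟨w, hw, hwx⟩ := p.2
          have hpU : j p.1 ∈ U := hwx ▸ w.2
          refine ⟨⟨⟨p.1, hpU⟩, ?_⟩, rfl⟩
          show (j ∣_ U) ⟨p.1, hpU⟩ ∈ V
          have : (j ∣_ U) ⟨p.1, hpU⟩ = w := U.ι.isOpenEmbedding.injective (by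
            rw [← Scheme.Hom.comp_apply, morphismRestrict_ι]
            exact hwx.symm)
          rw [this]
          exact hw)
      have hk : k ≫ ((j ∣_ U) ⁻¹ᵁ V).ι ≫ (j ⁻¹ᵁ U).ι = (j ⁻¹ᵁ V').ι := IsOpenImmersion.lift_fac _ _ _
      have h1 : (j ∣_ V') ≫ X.homOfLE hV'U = k ≫ ((j ∣_ U) ⁻¹ᵁ V).ι ≫ (j ∣_ U) := by
        rw [← cancel_mono U.ι]
        simp only [Category.assoc, Scheme.homOfLE_ι, morphismRestrict_ι, reassoc_of% hk]
      rw [← Category.assoc, h1, Category.assoc, Category.assoc, hV, reassoc_of% hk]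
  choose V f hxV hfs hfφ using loc
  have hcov : IsOpenCover V := IsOpenCover.mk (top_le_iff.1 fun x _ => Opens.mem_iSup.2 ⟨x, hxV x⟩)
  let 𝒰 := X.openCoverOfIsOpenCover V hcov
  have ov : ∀ (V₁ V₂ : X.Opens) (f₁ : V₁.toScheme ⟶ N) (f₂ : V₂.toScheme ⟶ N),
      f₁ ≫ sN = V₁.ι ≫ sX → f₂ ≫ sN = V₂.ι ≫ sX →
      (j ∣_ V₁) ≫ f₁ = (j ⁻¹ᵁ V₁).ι ≫ φ → (j ∣_ V₂) ≫ f₂ = (j ⁻¹ᵁ V₂).ι ≫ φ →
      pullback.fst V₁.ι V₂.ι ≫ f₁ = pullback.snd V₁.ι V₂.ι ≫ f₂ := by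
    intro V₁ V₂ f₁ f₂ hs₁ hs₂ hφ₁ hφ₂
    let w := pullback.fst V₁.ι V₂.ι ≫ V₁.ι
    haveI : IsOpenImmersion w := inferInstanceAs (IsOpenImmersion (pullback.fst V₁.ι V₂.ι ≫ V₁.ι))
    refine GrothLib.SchDense.ext_of_schDominant sN ?_ (pullback.snd j w) ?_
    · rw [Category.assoc, Category.assoc, hs₁, hs₂, pullback.condition_assoc]
    · have key : ∀ (V : X.Opens) (t : pullback V₁.ι V₂.ι ⟶ V.toScheme) (_ : t ≫ V.ι = w)
          (g : V.toScheme ⟶ N) (_ : (j ∣_ V) ≫ g = (j ⁻¹ᵁ V).ι ≫ φ),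
          pullback.snd j w ≫ t ≫ g = pullback.fst j w ≫ φ := by
        intro V t ht g hg
        let k : pullback j w ⟶ (j ⁻¹ᵁ V).toScheme :=
          (isPullback_morphismRestrict j V).lift (pullback.snd j w ≫ t) (pullback.fst j w)
            (by rw [Category.assoc, ht, pullback.condition])
        have hk1 : k ≫ (j ∣_ V) = pullback.snd j w ≫ t := (isPullback_morphismRestrict j V).lift_fst _ _ _
        have hk2 : k ≫ (j ⁻¹ᵁ V).ι = pullback.fst j w := (isPullback_morphismRestrict j V).lift_snd _ _ _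
        rw [← Category.assoc, ← hk1, Category.assoc, hg, reassoc_of% hk2]
      rw [key V₁ _ rfl f₁ hφ₁, key V₂ _ pullback.condition.symm f₂ hφ₂]
  have hglue : ∀ x y : 𝒰.I₀, pullback.fst (𝒰.f x) (𝒰.f y) ≫ f x = pullback.snd (𝒰.f x) (𝒰.f y) ≫ f y :=
    fun x y => ov (V x) (V y) (f x) (f y) (hfs x) (hfs y) (hfφ x) (hfφ y)
  refine ⟨𝒰.glueMorphisms f hglue, ?_, ?_⟩
  · refine 𝒰.hom_ext _ _ fun x => ?_
    rw [← Category.assoc, 𝒰.ι_glueMorphisms]
    exact hfs x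
  · refine (P.openCoverOfIsOpenCover (fun x => j ⁻¹ᵁ V x) (IsOpenCover.mk
      (top_le_iff.1 fun p _ => Opens.mem_iSup.2 ⟨j p, hxV (j p)⟩))).hom_ext _ _ fun x => ?_
    show (j ⁻¹ᵁ V x).ι ≫ j ≫ _ = (j ⁻¹ᵁ V x).ι ≫ φ
    rw [← hfφ, ← morphismRestrict_ι_assoc]
    exact congrArg ((j ∣_ V x) ≫ ·) (𝒰.ι_glueMorphisms f hglue x)

end GrothLib.SpreadOut
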